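import Groth.Agent.EtFound.Germ
import Groth.Agent.EtFound.PullStalk
import Groth.Prelude.Def_EtBase

/-!
# Torsion sheaves
-/

universe u

open CategoryTheory CategoryTheory.Limits AlgebraicGeometry Opposite

set_option backward.isDefEq.respectTransparency.types false

namespace Groth.Agent.H9Transfer

variable {X : Scheme.{u}}

theorem isTorsion_iff_stalks (F : EtCoh.Ab X) :
    EtCoh.IsTorsion F ↔ ∀ (Ω : Type u) [Field Ω] [IsSepClosed Ω] (ξ : Spec (CommRingCat.of Ω) ⟶ X)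
      (t : (EtCoh.stalk ξ).obj F), IsOfFinAddOrder t := by
  constructor
  · intro hF Ω _ _ ξ t
    obtain ⟨U, u, s, rfl⟩ := (Scheme.pointSmallEtale ξ).toPresheafFiber_jointly_surjective t
    obtain ⟨V, g, ⟨v, hv⟩, h⟩ := hF U s _
    obtain ⟨v', rfl, -⟩ := EtFound.exists_lift_point g u v hv
    erw [← (Scheme.pointSmallEtale ξ).toPresheafFiber_w_apply g v' F.obj s]
    exact AddMonoidHom.isOfFinAddOrder ((Scheme.pointSmallEtale ξ).toPresheafFiber V v' F.obj).hom h
  · intro h U s x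
    obtain ⟨Ω, _, _, ξ, u, hu⟩ := EtFound.exists_point_through U x
    obtain ⟨m, hm, h0⟩ := isOfFinAddOrder_iff_nsmul_eq_zero.1 (h Ω ξ ((Scheme.pointSmallEtale ξ).toPresheafFiber U u F.obj s))
    have h0' : (Scheme.pointSmallEtale ξ).toPresheafFiber U u F.obj (m • s) =
        (Scheme.pointSmallEtale ξ).toPresheafFiber U u F.obj 0 := by
      rw [map_zero, map_nsmul]; exact h0
    obtain ⟨V, f, v, hv, hf⟩ := ((Scheme.pointSmallEtale ξ).toPresheafFiber_eq_iff' _ _ _ _).1 h0'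
    refine ⟨V, f, ⟨(v.left : Spec (CommRingCat.of Ω) ⟶ V.left).base (default : Spec (CommRingCat.of Ω)), ?_⟩, ?_⟩
    · subst hv
      exact hu (default : Spec (CommRingCat.of Ω))
    · rw [map_nsmul, map_zero] at hf
      exact isOfFinAddOrder_iff_nsmul_eq_zero.2 ⟨m, hm, hf⟩

theorem isTorsion_pull {Y : Scheme.{u}} (f : X ⟶ Y) (F : EtCoh.Ab Y) (hF : EtCoh.IsTorsion F) :
    EtCoh.IsTorsion ((EtCoh.pull f).obj F) := by
  rw [isTorsion_iff_stalks] at hF ⊢
  intro Ω _ _ ξ t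
  let e := (EtFound.stalkPullIso f ξ).app F
  have h : e.inv (e.hom t) = t := ConcreteCategory.congr_hom e.hom_inv_id t
  rw [← h]
  exact AddMonoidHom.isOfFinAddOrder e.inv.hom (hF Ω (ξ ≫ f) (e.hom t))

end Groth.Agent.H9Transfer
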