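import Groth.Prelude.Def_EtGm
import Mathlib.Algebra.Homology.DerivedCategory.Ext.ExactSequences
import Mathlib.AlgebraicGeometry.ResidueField

/-!
# Classes killed by an integer
-/

noncomputable section

universe u

open CategoryTheory CategoryTheory.Limits AlgebraicGeometry Opposite Abelian

set_option backward.isDefEq.respectTransparency.types false

namespace Groth.Agent.H9Transfer

variable {X : Scheme.{u}}

theorem nsmul_sect_eq_zero {G : EtCoh.Ab X} {N : ℕ} (hG : N • 𝟙 G = 0) (U : X.Etale) (s : EtCoh.sect G U) :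
    N • s = 0 := by
  have e : ∀ a : ℕ, (a • 𝟙 G : G ⟶ G).hom.app (op U) s = a • s := fun a => by
    induction a with
    | zero => simp
    | succ a ih => simp [add_nsmul, ← ih]
  have := congrArg (fun φ : G ⟶ G => φ.hom.app (op U) s) hG
  simpa [e] using this

theorem kernel_nsmul_killed (F : EtCoh.Ab X) (N : ℕ) : N • 𝟙 (kernel (N • 𝟙 F)) = 0 := by
  rw [← cancel_mono (kernel.ι (N • 𝟙 F)), zero_comp, Preadditive.nsmul_comp, Category.id_comp]
  calc N • kernel.ι (N • 𝟙 F) = kernel.ι (N • 𝟙 F) ≫ (N • 𝟙 F) := by rw [Preadditive.comp_nsmul, Category.comp_id]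
    _ = 0 := kernel.condition _

theorem cokernel_nsmul_killed (F : EtCoh.Ab X) (N : ℕ) : N • 𝟙 (cokernel (N • 𝟙 F)) = 0 := by
  rw [← cancel_epi (cokernel.π (N • 𝟙 F)), comp_zero, Preadditive.comp_nsmul, Category.comp_id]
  calc N • cokernel.π (N • 𝟙 F) = (N • 𝟙 F) ≫ cokernel.π (N • 𝟙 F) := by rw [Preadditive.nsmul_comp, Category.id_comp]
    _ = 0 := cokernel.condition _

theorem comp_nsmul_id {F : EtCoh.Ab X} {i : ℕ} (x : EtCoh.H X F i) (N : ℕ) :
    x.comp (Ext.mk₀ (N • 𝟙 F)) (add_zero i) = N • x := by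
  rw [show Ext.mk₀ (N • 𝟙 F) = N • Ext.mk₀ (𝟙 F) from map_nsmul (Ext.addEquiv₀.symm : (F ⟶ F) ≃+ _) N _,
    show x.comp (N • Ext.mk₀ (𝟙 F)) (add_zero i) = N • x.comp (Ext.mk₀ (𝟙 F)) (add_zero i) from
      map_nsmul ((Ext.bilinearComp _ F F i 0 i (add_zero _)) x) N _, Ext.comp_mk₀_id]

/-- If multiplication by `N` has kernel and cokernel without cohomology in degrees `q + 1` and `q`, it is
injective on cohomology in degree `q + 1`. -/
theorem eq_zero_of_nsmul {F : EtCoh.Ab X} {N : ℕ} {q : ℕ} (x : EtCoh.H X F (q + 1)) (hx : N • x = 0)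
    (hker : ∀ y : EtCoh.H X (kernel (N • 𝟙 F)) (q + 1), y = 0)
    (hcok : ∀ z : EtCoh.H X (cokernel (N • 𝟙 F)) q, z = 0) : x = 0 := by
  let f : F ⟶ F := N • 𝟙 F
  let e := Abelian.factorThruImage f
  let i := Abelian.image.ι f
  have hei : e ≫ i = f := Abelian.image.fac f
  have hk : kernel.ι f ≫ e = 0 := by
    rw [← cancel_mono i, Category.assoc, hei, kernel.condition, zero_comp]
  let S₁ : ShortComplex (EtCoh.Ab X) := ShortComplex.mk (kernel.ι f) e hk
  let S₂ : ShortComplex (EtCoh.Ab X) := ShortComplex.mk i (cokernel.π f) (kernel.condition _)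
  have hS₂ : S₂.ShortExact :=
    { exact := ShortComplex.exact_of_f_is_kernel S₂ (kernelIsKernel (cokernel.π f))
      mono_f := inferInstanceAs (Mono i)
      epi_g := inferInstanceAs (Epi (cokernel.π f)) }
  have hS₁ : S₁.ShortExact :=
    { exact := ShortComplex.exact_of_f_is_kernel S₁
        (KernelFork.IsLimit.ofι _ _ (fun g hg => kernel.lift f g (by rw [← hei, reassoc_of% hg, zero_comp]))
          (fun g hg => kernel.lift_ι _ _ _) (fun g hg b hb => by rw [← cancel_mono (kernel.ι f), kernel.lift_ι]; exact hb))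
      mono_f := inferInstanceAs (Mono (kernel.ι f))
      epi_g := inferInstanceAs (Epi e) }
  have hxe : x.comp (Ext.mk₀ e) (add_zero (q + 1)) = 0 := by
    obtain ⟨z, hz⟩ := Ext.covariant_sequence_exact₁ _ hS₂ (x.comp (Ext.mk₀ e) (add_zero (q + 1)))
      (by
        rw [Ext.comp_assoc_of_third_deg_zero, Ext.mk₀_comp_mk₀]
        exact hei.symm ▸ (comp_nsmul_id x N).trans hx) (rfl : q + 1 = q + 1)
    rw [← hz, hcok z, Ext.zero_comp]
  obtain ⟨y, hy⟩ := Ext.covariant_sequence_exact₂ _ hS₁ x hxe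
  rw [← hy, hker y, Ext.zero_comp]

theorem range_H_kernel {F G : EtCoh.Ab X} (f : F ⟶ G) [Epi f] (i : ℕ) (x : EtCoh.H X F i)
    (hx : x.comp (Ext.mk₀ f) (add_zero i) = 0) :
    ∃ y : EtCoh.H X (kernel f) i, y.comp (Ext.mk₀ (kernel.ι f)) (add_zero i) = x := by
  let S : ShortComplex (EtCoh.Ab X) := ShortComplex.mk (kernel.ι f) f (kernel.condition f)
  have hS : S.ShortExact :=
    { exact := ShortComplex.exact_of_f_is_kernel S (kernelIsKernel f)
      mono_f := inferInstanceAs (Mono (kernel.ι f))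
      epi_g := inferInstanceAs (Epi f) }
  exact Ext.covariant_sequence_exact₂ _ hS x hx

theorem isUnit_natCast_of_invertible {n : ℕ} (h : ∀ x : X, (n : X.residueField x) ≠ 0) : IsUnit (n : Γ(X, ⊤)) := by
  refine X.toRingedSpace.isUnit_of_isUnit_germ ⊤ _ fun x hx => ?_
  have h1 := h x
  rw [← map_natCast (X.residue x).hom n] at h1
  have h2 : IsUnit (n : X.presheaf.stalk x) := by
    by_contra hu
    exact h1 ((IsLocalRing.residue_eq_zero_iff _).2 hu)
  rw [← map_natCast (X.presheaf.germ ⊤ x hx).hom n] at h2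
  exact h2

end Groth.Agent.H9Transfer
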