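import Groth.Agent.H9Transfer.Basic
import Mathlib.RingTheory.Etale.Field
import Mathlib.FieldTheory.PrimitiveElement
import Mathlib.FieldTheory.Normal.Closure
import Mathlib.FieldTheory.IsSepClosed

/-!
# Transfer for finite separable extensions of fields
-/

noncomputable section

universe u

open CategoryTheory CategoryTheory.Limits AlgebraicGeometry Opposite

set_option linter.style.haveILetI false
set_option backward.isDefEq.respectTransparency false
set_option backward.isDefEq.respectTransparency.types false

namespace Groth.Agent.H9Transfer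

variable (K L : Type u) [Field K] [Field L] [Algebra K L] [FiniteDimensional K L] [Algebra.IsSeparable K L]

abbrev specMap : Spec (CommRingCat.of L) ⟶ Spec (CommRingCat.of K) := Spec.map (CommRingCat.ofHom (algebraMap K L))

theorem etale_specMap : Etale (specMap K L) := by
  have : Algebra.Etale K L := ⟨Algebra.FormallyEtale.of_isSeparable K L, Algebra.FinitePresentation.of_finiteType.1 inferInstance⟩
  rw [specMap, HasRingHomProperty.Spec_iff (P := @Etale)]
  exact RingHom.etale_algebraMap.2 this

variable {K L}

theorem exists_splitting [Etale (specMap K L)] :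
    ∃ (ι : Type) (_ : Fintype ι) (M : (Spec (CommRingCat.of K)).Etale) (σ : ι → (M ⟶ Lo (specMap K L))),
      Fintype.card ι = Module.finrank K L ∧ Function.Surjective M.hom.base ∧
      ∀ (Ω : Type u) (_ : Field Ω) (_ : IsSepClosed Ω) (ξ : Spec (CommRingCat.of Ω) ⟶ Spec (CommRingCat.of K))
        (v : (Scheme.pointSmallEtale ξ).fiber.obj M),
        Function.Bijective fun i => (Scheme.pointSmallEtale ξ).fiber.map (σ i) v := by
  let Ω₀ := AlgebraicClosure K
  let E : IntermediateField K Ω₀ := IntermediateField.normalClosure K L Ω₀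
  haveI : Algebra.IsSeparable K E := by
    haveI : ∀ f : L →ₐ[K] Ω₀, Algebra.IsSeparable K f.fieldRange := fun f =>
      AlgEquiv.Algebra.isSeparable (AlgEquiv.ofInjectiveField f)
    exact IntermediateField.isSeparable_iSup (h := fun f => inferInstance)
  haveI := etale_specMap K E
  let M : (Spec (CommRingCat.of K)).Etale := Scheme.Etale.mk (specMap K E)
  let lift : (L →ₐ[K] Ω₀) → (L →ₐ[K] E) := fun f =>
    (IntermediateField.inclusion (f.fieldRange_le_normalClosure)).comp f.rangeRestrict
  let e := (Fintype.equivFin (L →ₐ[K] Ω₀)).symm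
  have hd : Fintype.card (L →ₐ[K] Ω₀) = Module.finrank K L := AlgHom.card K L Ω₀
  let σ : Fin (Fintype.card (L →ₐ[K] Ω₀)) → (M ⟶ Lo (specMap K L)) := fun i =>
    MorphismProperty.Over.homMk (Spec.map (CommRingCat.ofHom (lift (e i)).toRingHom)) (by
      show Spec.map (CommRingCat.ofHom (lift (e i)).toRingHom) ≫ 𝟙 _ ≫ specMap K L = specMap K E
      rw [Category.id_comp, ← Spec.map_comp, ← CommRingCat.ofHom_comp]
      exact congrArg (fun φ => Spec.map (CommRingCat.ofHom φ)) (lift (e i)).comp_algebraMap)
  have hσ : ∀ (Ω : Type u) (_ : Field Ω) (_ : IsSepClosed Ω) (ξ : Spec (CommRingCat.of Ω) ⟶ Spec (CommRingCat.of K))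
      (v : (Scheme.pointSmallEtale ξ).fiber.obj M),
      Function.Bijective fun i => (Scheme.pointSmallEtale ξ).fiber.map (σ i) v := by
    intro Ω _ _ ξ v
    let c : CommRingCat.of K ⟶ CommRingCat.of Ω := Spec.preimage ξ
    letI : Algebra K Ω := c.hom.toAlgebra
    have hξ : Spec.map (CommRingCat.ofHom (algebraMap K Ω)) = ξ := Spec.map_preimage ξ
    let toAlg : (Scheme.pointSmallEtale ξ).fiber.obj (Lo (specMap K L)) → (L →ₐ[K] Ω) := fun u =>
      let φ : CommRingCat.of L ⟶ CommRingCat.of Ω := Spec.preimage (u.left : Spec (CommRingCat.of Ω) ⟶ Spec (CommRingCat.of L))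
      { φ.hom with
        commutes' := fun r => by
          have h : Spec.map φ ≫ specMap K L = ξ := by
            rw [Spec.map_preimage]
            exact (congrArg (u.left ≫ ·) (Category.id_comp _).symm).trans (CategoryTheory.Over.w u)
          rw [← hξ, ← Spec.map_comp] at h
          exact congr(($(Spec.map_injective h)).hom r) }
    have hto : Function.Injective toAlg := fun a b h => by
      refine CategoryTheory.Over.OverMorphism.ext ?_
      rw [← Spec.map_preimage (a.left : Spec (CommRingCat.of Ω) ⟶ Spec (CommRingCat.of L)),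
        ← Spec.map_preimage (b.left : Spec (CommRingCat.of Ω) ⟶ Spec (CommRingCat.of L))]
      exact congrArg Spec.map (CommRingCat.hom_ext (RingHom.ext fun r => DFunLike.congr_fun h r))
    let ψ : CommRingCat.of E ⟶ CommRingCat.of Ω := Spec.preimage (v.left : Spec (CommRingCat.of Ω) ⟶ Spec (CommRingCat.of E))
    have hinj : Function.Injective fun i => (Scheme.pointSmallEtale ξ).fiber.map (σ i) v := by
      intro i i' h
      have h' : (v.left : Spec (CommRingCat.of Ω) ⟶ Spec (CommRingCat.of E)) ≫ Spec.map (CommRingCat.ofHom (lift (e i)).toRingHom) =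
          (v.left : Spec (CommRingCat.of Ω) ⟶ Spec (CommRingCat.of E)) ≫ Spec.map (CommRingCat.ofHom (lift (e i')).toRingHom) :=
        congrArg CommaMorphism.left h
      rw [← Spec.map_preimage (v.left : Spec (CommRingCat.of Ω) ⟶ Spec (CommRingCat.of E)), ← Spec.map_comp, ← Spec.map_comp] at h'
      refine e.injective (AlgHom.ext fun r => ?_)
      exact congrArg Subtype.val (ψ.hom.injective congr(($(Spec.map_injective h')).hom r))
    have : Finite ((Scheme.pointSmallEtale ξ).fiber.obj (Lo (specMap K L))) := Finite.of_injective toAlg hto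
    refine hinj.bijective_of_nat_card_le ?_
    rw [Nat.card_fin, hd]
    exact (Nat.card_le_card_of_injective toAlg hto).trans (card_algHom_le_finrank K L Ω)
  exact ⟨_, inferInstance, M, σ, (Fintype.card_fin _).trans hd,
    fun (x : Spec (CommRingCat.of K)) => ⟨(default : Spec (CommRingCat.of E)), Subsingleton.elim (α := Spec (CommRingCat.of K)) _ _⟩, hσ⟩

theorem nsmul_finrank_eq_zero [PreservesFiniteLimits (EtCoh.pull (specMap K L))]
    {F : EtCoh.Ab (Spec (CommRingCat.of K))} {n : ℕ} (α : EtCoh.H (Spec (CommRingCat.of K)) F n)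
    (hα : EtCore.Hpull (specMap K L) F n α = 0) : Module.finrank K L • α = 0 := by
  haveI := etale_specMap K L
  haveI := EtFound.jCont (specMap K L)
  obtain ⟨ι, _, M, σ, hd, hM, hσ⟩ := exists_splitting (K := K) (L := L)
  rw [← hd]
  exact nsmul_eq_zero (specMap K L) σ hσ hM α hα

end Groth.Agent.H9Transfer
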