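import Groth.Agent.H9Transfer.Field
import Groth.Agent.EtMVLib.HpullApply
import Mathlib.FieldTheory.Galois.Basic
import Mathlib.GroupTheory.Sylow

/-!
# Pullbacks of classes along composites
-/

noncomputable section

universe u

open CategoryTheory CategoryTheory.Limits AlgebraicGeometry Opposite Abelian

set_option linter.style.haveILetI false
set_option backward.isDefEq.respectTransparency false
set_option backward.isDefEq.respectTransparency.types false

namespace Groth.Agent.H9Transfer

theorem pull_preservesFiniteColimits {W U : Scheme.{u}} (g : W ⟶ U) : PreservesFiniteColimits (EtCoh.pull g) := by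
  have : (EtCoh.pull g).IsLeftAdjoint := (EtCoh.pullPushAdj g).isLeftAdjoint
  infer_instance

variable {W U X : Scheme.{u}} (g : W ⟶ U) (f : U ⟶ X) (h : W ⟶ X) (w : g ≫ f = h)
  [PreservesFiniteLimits (EtCoh.pull g)] [PreservesFiniteLimits (EtCoh.pull f)] [PreservesFiniteLimits (EtCoh.pull h)]
  {F : EtCoh.Ab X} {n : ℕ} (α : EtCoh.H X F n)

theorem mk₀_comp_eq_zero {C : Type*} [Category C] [Abelian C] [HasExt C] {A B D : C} (e : A ⟶ B) [IsIso e]
    {m : ℕ} {x : Ext B D m} (hx : (Ext.mk₀ e).comp x (zero_add m) = 0) : x = 0 := by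
  have := congrArg (fun y => (Ext.mk₀ (inv e)).comp y (zero_add m)) hx
  simpa [Ext.mk₀_comp_mk₀_assoc] using this

theorem comp_mk₀_eq_zero {C : Type*} [Category C] [Abelian C] [HasExt C] {A B D : C} (e : B ⟶ D) [IsIso e]
    {m : ℕ} {x : Ext A B m} (hx : x.comp (Ext.mk₀ e) (add_zero m) = 0) : x = 0 := by
  have := congrArg (fun y => y.comp (Ext.mk₀ (inv e)) (add_zero m)) hx
  simpa using this

include w

theorem mapExact_comp_eq_zero (hf : EtCore.Hpull f F n α = 0) : EtCore.Hpull h F n α = 0 := by
  haveI := pull_preservesFiniteColimits g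
  haveI := pull_preservesFiniteColimits f
  haveI := pull_preservesFiniteColimits h
  subst w
  have hf' : Ext.mapExactFunctor (EtCoh.pull f) α = 0 := mk₀_comp_eq_zero _ hf
  have := H9ExtNat.mapExt_comp_natural (EtCoh.pull f) (EtCoh.pull g) (EtCoh.pull (g ≫ f)) (EtCore.pullComp g f).inv α
  rw [hf', Ext.mapExactFunctor_zero, Ext.zero_comp] at this
  rw [EtMVLib.Hpull_apply, mk₀_comp_eq_zero _ this.symm, Ext.comp_zero]

theorem Hpull_Hpull_eq_zero (hh : EtCore.Hpull h F n α = 0) :
    EtCore.Hpull g _ n (EtCore.Hpull f F n α) = 0 := by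
  haveI := pull_preservesFiniteColimits g
  haveI := pull_preservesFiniteColimits f
  haveI := pull_preservesFiniteColimits h
  subst w
  have hh' : Ext.mapExactFunctor (EtCoh.pull (g ≫ f)) α = 0 := mk₀_comp_eq_zero _ hh
  have := H9ExtNat.mapExt_comp_natural (EtCoh.pull f) (EtCoh.pull g) (EtCoh.pull (g ≫ f)) (EtCore.pullComp g f).inv α
  rw [hh', Ext.comp_zero] at this
  rw [EtMVLib.Hpull_apply, EtMVLib.Hpull_apply, Ext.mapExactFunctor_comp, comp_mk₀_eq_zero _ this,
    Ext.comp_zero, Ext.comp_zero]

omit w

theorem exists_coprime_field (K L : Type u) [Field K] [Field L] [Algebra K L] [FiniteDimensional K L]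
    [Algebra.IsSeparable K L] [PreservesFiniteLimits (EtCoh.pull (specMap K L))]
    {F : EtCoh.Ab (Spec (CommRingCat.of K))} {n : ℕ} (α : EtCoh.H (Spec (CommRingCat.of K)) F n)
    (hα : EtCore.Hpull (specMap K L) F n α = 0) (p : ℕ) (hp : p.Prime) (hpα : ¬ p ∣ addOrderOf α) :
    ∃ (L' : Type u) (_ : Field L') (_ : Algebra K L') (_ : FiniteDimensional K L') (_ : Algebra.IsSeparable K L'),
      ¬ p ∣ Module.finrank K L' ∧
        ∀ [PreservesFiniteLimits (EtCoh.pull (specMap K L'))], EtCore.Hpull (specMap K L') F n α = 0 := by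
  haveI := Fact.mk hp
  let Ω₀ := SeparableClosure K
  let E : IntermediateField K Ω₀ := IntermediateField.normalClosure K L Ω₀
  haveI : Algebra.IsSeparable K E := Algebra.isSeparable_tower_bot_of_isSeparable K E Ω₀
  haveI : IsGalois K E := ⟨⟩
  obtain ⟨P⟩ : Nonempty (Sylow p Gal(E/K)) := inferInstance
  let L' : IntermediateField K E := IntermediateField.fixedField (P : Subgroup Gal(E/K))
  haveI : Algebra.IsSeparable K L' := Algebra.isSeparable_tower_bot_of_isSeparable K L' E
  haveI : Algebra.IsSeparable L' E := Algebra.isSeparable_tower_top_of_isSeparable K L' E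
  refine ⟨L', inferInstance, inferInstance, inferInstance, inferInstance, ?_, ?_⟩
  · intro hd
    have h1 : Module.finrank L' E = Nat.card (P : Subgroup Gal(E/K)) := IntermediateField.finrank_fixedField_eq_card _
    have h2 := Module.finrank_mul_finrank K L' E
    have h3 := P.not_dvd_index
    refine h3 ?_
    have h4 : (P : Subgroup Gal(E/K)).index = Module.finrank K L' := by
      have h5 := Subgroup.card_mul_index (P : Subgroup Gal(E/K))
      rw [IsGalois.card_aut_eq_finrank, ← h2, ← h1, mul_comm] at h5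
      exact mul_right_cancel₀ Module.finrank_pos.ne' h5
    rwa [h4]
  · intro _
    let φ : L →ₐ[K] E :=
      let f : L →ₐ[K] Ω₀ := IsSepClosed.lift
      (IntermediateField.inclusion f.fieldRange_le_normalClosure).comp f.rangeRestrict
    haveI := EtFound.pull_preservesFiniteLimits (specMap K E)
    haveI := EtFound.pull_preservesFiniteLimits (specMap L' E)
    haveI := EtFound.pull_preservesFiniteLimits (Spec.map (CommRingCat.ofHom φ.toRingHom))
    have hE : EtCore.Hpull (specMap K E) F n α = 0 :=
      mapExact_comp_eq_zero (Spec.map (CommRingCat.ofHom φ.toRingHom)) (specMap K L) (specMap K E)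
        (by rw [← Spec.map_comp, ← CommRingCat.ofHom_comp]
            exact congrArg (fun ψ => Spec.map (CommRingCat.ofHom ψ)) φ.comp_algebraMap) α hα
    have h := nsmul_finrank_eq_zero (K := L') (L := E) (EtCore.Hpull (specMap K L') F n α)
      (Hpull_Hpull_eq_zero (specMap L' E) (specMap K L') (specMap K E)
        (by rw [← Spec.map_comp, ← CommRingCat.ofHom_comp]
            rfl) α hE)
    set β := EtCore.Hpull (specMap K L') F n α
    obtain ⟨m, hm⟩ := IsPGroup.iff_card.1 P.isPGroup'
    rw [IntermediateField.finrank_fixedField_eq_card, hm] at h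
    have h₁ : addOrderOf β ∣ p ^ m := addOrderOf_dvd_iff_nsmul_eq_zero.2 h
    have h₂ : addOrderOf β ∣ addOrderOf α :=
      addOrderOf_map_dvd (EtCore.Hpull (specMap K L') F n) α
    have h₃ : addOrderOf β = 1 := Nat.eq_one_of_dvd_coprimes ((hp.coprime_iff_not_dvd.2 hpα).pow_left m) h₁ h₂
    exact AddMonoid.addOrderOf_eq_one_iff.1 h₃

end Groth.Agent.H9Transfer
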