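import Groth.Agent.EtLC12.AffineLocalAcyclic
import Groth.Agent.EtFound.JContGen
import Groth.Agent.EtFound.ExtZeroExact
import Groth.Agent.EtFound.Stalk
import Groth.Agent.EtFound.PullStalk
import Groth.Agent.H9ExtNat.Basic
import Groth.Agent.CechTorsor.Basic

/-!
# Restriction followed by transfer is multiplication by the degree

If an étale `j : U ⟶ X` is trivialised by a covering `M` of `X` into `d` copies, then a cohomology
class of `X` killed by `j` is killed by `d`.
-/

noncomputable section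

universe u

open CategoryTheory CategoryTheory.Limits AlgebraicGeometry Opposite Abelian

set_option linter.style.haveILetI false
set_option backward.isDefEq.respectTransparency false
set_option backward.isDefEq.respectTransparency.types false

namespace Groth.Agent.H9Transfer

variable {U X : Scheme.{u}} (j : U ⟶ X) [AlgebraicGeometry.Etale j] [EtShriek.JCont j]

abbrev Zs (X : Scheme.{u}) : EtCoh.Ab X := EtCoh.const X ℤ

/-- The section `1` of the constant sheaf. -/
def one (X : Scheme.{u}) : (Zs X).obj.obj (op (EtCoh.top X)) :=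
  (EtCore.constAdj X).unit.app (AddCommGrpCat.of (ULift.{u + 1} ℤ)) ⟨1⟩

/-- `U` as an object of the site of `X`. -/
abbrev Lo : X.Etale := (EtShriek.compEtale j).obj (EtCoh.top U)

abbrev G : EtCoh.Ab X := (EtShriek.extZero j).obj ((EtShriek.restrAlong j).obj (Zs X))

abbrev ε : G j ⟶ Zs X := (EtShriek.extZeroAdj j).counit.app (Zs X)

/-- The tautological section over `U`. -/
def s₀ : (G j).obj.obj (op (Lo j)) :=
  ((EtShriek.extZeroAdj j).unit.app ((EtShriek.restrAlong j).obj (Zs X))).hom.app (op (EtCoh.top U))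
    ((Zs X).obj.map ((EtCore.topIsTerminal X).from (Lo j)).op (one X))

theorem ε_s₀ : (ε j).hom.app (op (Lo j)) (s₀ j) =
    (Zs X).obj.map ((EtCore.topIsTerminal X).from (Lo j)).op (one X) := by
  have h := congrArg (fun f : (EtShriek.restrAlong j).obj (Zs X) ⟶ (EtShriek.restrAlong j).obj (Zs X) =>
      f.hom.app (op (EtCoh.top U))) ((EtShriek.extZeroAdj j).right_triangle_components (Zs X))
  exact ConcreteCategory.congr_hom h _

variable {ι : Type} [Fintype ι] {M : X.Etale} (σ : ι → (M ⟶ Lo j))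

/-- The sum of the conjugates of a section. -/
def sumOf (A : EtCoh.Ab X) (s : A.obj.obj (op (Lo j))) : A.obj.obj (op M) := ∑ i, A.obj.map (σ i).op s

/-- The sum of the tautological sections. -/
def sumSec : (G j).obj.obj (op M) := sumOf j σ (G j) (s₀ j)

variable (hσ : ∀ (Ω : Type u) (_ : Field Ω) (_ : IsSepClosed Ω) (ξ : Spec (CommRingCat.of Ω) ⟶ X)
    (v : (Scheme.pointSmallEtale ξ).fiber.obj M),
    Function.Bijective fun i => (Scheme.pointSmallEtale ξ).fiber.map (σ i) v)

include hσ

theorem map_sumOf_eq (A : EtCoh.Ab X) (s : A.obj.obj (op (Lo j))) {T : X.Etale} (a b : T ⟶ M) :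
    A.obj.map a.op (sumOf j σ A s) = A.obj.map b.op (sumOf j σ A s) := by
  have hS := EtFound.equalizerSieve_mem_of_germs A.obj T
    (A.obj.map a.op (sumOf j σ A s)) (A.obj.map b.op (sumOf j σ A s)) fun Ω _ _ ξ t => by
    rw [(Scheme.pointSmallEtale ξ).toPresheafFiber_w_apply, (Scheme.pointSmallEtale ξ).toPresheafFiber_w_apply]
    simp only [sumOf, map_sum, (Scheme.pointSmallEtale ξ).toPresheafFiber_w_apply]
    let ea := Equiv.ofBijective _ (hσ Ω inferInstance inferInstance ξ ((Scheme.pointSmallEtale ξ).fiber.map a t))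
    let eb := Equiv.ofBijective _ (hσ Ω inferInstance inferInstance ξ ((Scheme.pointSmallEtale ξ).fiber.map b t))
    refine Fintype.sum_equiv (ea.trans eb.symm) _ _ fun i => ?_
    have : (Scheme.pointSmallEtale ξ).fiber.map (σ ((ea.trans eb.symm) i)) ((Scheme.pointSmallEtale ξ).fiber.map b t) =
        (Scheme.pointSmallEtale ξ).fiber.map (σ i) ((Scheme.pointSmallEtale ξ).fiber.map a t) := eb.apply_symm_apply _
    rw [this]
  exact (((isSheaf_iff_isSheaf_of_type _ _).1
    ((sheafCompose X.smallEtaleTopology (forget AddCommGrpCat.{u + 1})).obj A).property).isSeparated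
    _ hS).ext fun V g hg => hg

variable (hM : Function.Surjective M.hom.base)

include hM

/-- The trace of a section: it exists globally, and is compatible with morphisms of sheaves. -/
theorem exists_trace (A : EtCoh.Ab X) (s : A.obj.obj (op (Lo j))) :
    ∃ c : A.obj.obj (op (EtCoh.top X)),
      ∀ (B : EtCoh.Ab X) (g : A ⟶ B) (b : B.obj.obj (op (EtCoh.top X))),
        g.hom.app (op (Lo j)) s = B.obj.map ((EtCore.topIsTerminal X).from (Lo j)).op b →
        g.hom.app (op (EtCoh.top X)) c = Fintype.card ι • b := by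
  let π := (EtCore.topIsTerminal X).from M
  let S : Sieve (EtCoh.top X) := Sieve.ofArrows (fun _ : Unit => M) (fun _ => π)
  have hS : S ∈ X.smallEtaleTopology (EtCoh.top X) := by
    rw [EtFound.mem_topology_iff]
    intro x
    obtain ⟨m, hm⟩ := hM x
    refine ⟨M, π, m, Sieve.ofArrows_mk _ _ (), ?_⟩
    have e : π.left = M.hom := (Category.comp_id _).symm.trans (MorphismProperty.Over.w π)
    show π.left.base m = x
    rw [e]
    exact hm
  have fac : ∀ {T : X.Etale} (f : T ⟶ EtCoh.top X), S f → Nonempty (T ⟶ M) := fun f hf => by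
    obtain ⟨_, g, _, ⟨_⟩, -⟩ := hf
    exact ⟨g⟩
  let P := (sheafCompose X.smallEtaleTopology (forget AddCommGrpCat.{u + 1})).obj A
  have hP := ((isSheaf_iff_isSheaf_of_type _ _).1 P.property) S hS
  let x : Presieve.FamilyOfElements P.obj S.arrows := fun T f hf => A.obj.map (fac f hf).some.op (sumOf j σ A s)
  have hx : x.Compatible := by
    rw [Presieve.compatible_iff_sieveCompatible]
    intro T T' f g hf
    refine (map_sumOf_eq j σ hσ A s _ (g ≫ (fac f hf).some)).trans ?_
    rw [op_comp, Functor.map_comp]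
    rfl
  obtain ⟨c, hc, -⟩ := hP x hx
  have hcM : A.obj.map π.op c = sumOf j σ A s := by
    refine (hc π (Sieve.ofArrows_mk _ _ ())).trans ((map_sumOf_eq j σ hσ A s _ (𝟙 M)).trans ?_)
    simp
  refine ⟨c, fun B g b hgb => ?_⟩
  have hsep := (((isSheaf_iff_isSheaf_of_type _ _).1
    ((sheafCompose X.smallEtaleTopology (forget AddCommGrpCat.{u + 1})).obj B).property).isSeparated _ hS)
  refine hsep.ext fun T f hf => ?_
  obtain ⟨h, hh⟩ : ∃ h : T ⟶ M, h ≫ π = f := ⟨(fac f hf).some, (EtCore.topIsTerminal X).hom_ext _ _⟩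
  subst hh
  show B.obj.map (h ≫ π).op (g.hom.app _ c) = B.obj.map (h ≫ π).op (Fintype.card ι • b)
  rw [op_comp, Functor.map_comp, ConcreteCategory.comp_apply, ConcreteCategory.comp_apply,
    ← NatTrans.naturality_apply g.hom, hcM, sumOf, map_sum]
  congr 1
  simp only [NatTrans.naturality_apply, hgb, map_nsmul]
  rw [← Finset.card_univ, ← Finset.sum_const]
  refine Finset.sum_congr rfl fun i _ => ?_
  rw [← ConcreteCategory.comp_apply, ← Functor.map_comp, ← op_comp,
    (EtCore.topIsTerminal X).hom_ext (σ i ≫ (EtCore.topIsTerminal X).from (Lo j)) π]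

theorem exists_global : ∃ c : (G j).obj.obj (op (EtCoh.top X)),
    (ε j).hom.app (op (EtCoh.top X)) c = Fintype.card ι • one X := by
  obtain ⟨c, hc⟩ := exists_trace j σ hσ hM (G j) (s₀ j)
  exact ⟨c, hc _ (ε j) (one X) (ε_s₀ j)⟩

theorem exists_transfer : ∃ τ : Zs X ⟶ G j, τ ≫ ε j = Fintype.card ι • 𝟙 (Zs X) := by
  obtain ⟨c, hc⟩ := exists_global j σ hσ hM
  let A := AddCommGrpCat.of (ULift.{u + 1} ℤ)
  let g : A ⟶ (EtCore.gsec X).obj (G j) := AddCommGrpCat.ofHom
    ((zmultiplesHom _ c).comp (AddEquiv.ulift : ULift.{u + 1} ℤ ≃+ ℤ).toAddMonoidHom)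
  refine ⟨((EtCore.constAdj X).homEquiv _ _).symm g, ?_⟩
  apply ((EtCore.constAdj X).homEquiv _ _).injective
  rw [Adjunction.homEquiv_naturality_right, Equiv.apply_symm_apply, Adjunction.homEquiv_unit]
  refine AddCommGrpCat.hom_ext (AddMonoidHom.ext fun ⟨n⟩ => ?_)
  have h1 : ((EtCore.constAdj X).unit.app A) ⟨n⟩ = n • one X := by
    rw [show (⟨n⟩ : ULift.{u + 1} ℤ) = n • (⟨1⟩ : ULift.{u + 1} ℤ) from ULift.ext _ _ (by simp)]
    exact map_zsmul ((EtCore.constAdj X).unit.app A).hom n _
  show (ε j).hom.app (op (EtCoh.top X)) (n • c) =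
    (Fintype.card ι • 𝟙 (Zs X) : Zs X ⟶ Zs X).hom.app (op (EtCoh.top X)) (((EtCore.constAdj X).unit.app A) ⟨n⟩)
  have e : ∀ (a : ℕ) (s : (Zs X).obj.obj (op (EtCoh.top X))),
      (a • 𝟙 (Zs X) : Zs X ⟶ Zs X).hom.app (op (EtCoh.top X)) s = a • s := fun a s => by
    induction a with
    | zero => simp
    | succ a ih => simp [add_nsmul, ← ih]
  rw [h1, e, map_zsmul, hc, smul_comm]

/-- A class killed by `j` is killed by the degree. -/
theorem nsmul_eq_zero [PreservesFiniteLimits (EtCoh.pull j)] {F : EtCoh.Ab X} {n : ℕ}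
    (α : EtCoh.H X F n) (hα : EtCore.Hpull j F n α = 0) : Fintype.card ι • α = 0 := by
  let R := EtShriek.restrAlong j
  let L := EtShriek.extZero j
  let φ : EtCoh.pull j ≅ R := (EtLC12.AffineLocalAcyclic.restrIsoPull j).symm
  haveI : PreservesFiniteColimits (EtCoh.pull j) :=
    haveI : (EtCoh.pull j).IsLeftAdjoint := (EtCoh.pullPushAdj j).isLeftAdjoint
    inferInstance
  haveI : PreservesFiniteLimits R := preservesFiniteLimits_of_natIso φ
  haveI : PreservesFiniteColimits R := preservesFiniteColimits_of_natIso φ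
  haveI : PreservesFiniteLimits L := EtFound.extZero_preservesFiniteLimits j
  haveI : PreservesFiniteColimits L :=
    haveI : L.IsLeftAdjoint := (EtShriek.extZeroAdj j).isLeftAdjoint
    inferInstance
  haveI : R.Additive := Functor.additive_of_preserves_binary_products _
  haveI : L.Additive := Functor.additive_of_preserves_binary_products _
  have h0 : Ext.mapExactFunctor (EtCoh.pull j) α = 0 := by
    have h : (Ext.mk₀ (EtCore.pullConst j ℤ).inv).comp (Ext.mapExactFunctor (EtCoh.pull j) α) (zero_add n) = 0 := hα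
    have := congrArg (fun e => (Ext.mk₀ (EtCore.pullConst j ℤ).hom).comp e (zero_add n)) h
    simpa [Ext.mk₀_comp_mk₀_assoc] using this
  have h1 : Ext.mapExactFunctor R α = 0 := by
    have h := H9ExtNat.mapExt_natural φ.hom α
    rw [h0, Ext.zero_comp] at h
    have := congrArg (fun e => (Ext.mk₀ (φ.inv.app (Zs X))).comp e (zero_add n)) h
    simpa [Ext.mk₀_comp_mk₀_assoc] using this.symm
  have h2 := H9ExtNat.mapExt_mapExt_natural R L (EtShriek.extZeroAdj j).counit α
  rw [h1, Ext.mapExactFunctor_zero, Ext.zero_comp] at h2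
  obtain ⟨τ, hτ⟩ := exists_transfer j σ hσ hM
  have h3 := congrArg (fun e => (Ext.mk₀ τ).comp e (zero_add n)) h2
  simp only [Ext.comp_zero, Ext.mk₀_comp_mk₀_assoc] at h3
  rw [show τ ≫ (EtShriek.extZeroAdj j).counit.app (Zs X) = Fintype.card ι • 𝟙 (Zs X) from hτ,
    show Ext.mk₀ (Fintype.card ι • 𝟙 (Zs X)) = Fintype.card ι • Ext.mk₀ (𝟙 (Zs X)) from
      map_nsmul (Ext.addEquiv₀.symm : (Zs X ⟶ Zs X) ≃+ _) _ _] at h3
  have h5 : (Fintype.card ι • Ext.mk₀ (𝟙 (Zs X))).comp α (zero_add n) =
      Fintype.card ι • (Ext.mk₀ (𝟙 (Zs X))).comp α (zero_add n) :=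
    map_nsmul (((Ext.bilinearComp (Zs X) (Zs X) F 0 n n (zero_add n))).flip α) _ _
  rw [h5, Ext.mk₀_id_comp] at h3
  exact h3.symm

end Groth.Agent.H9Transfer
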