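import Groth.Agent.H9Transfer.Torsion
import Groth.Agent.H9Transfer.ConstLift
import Groth.Agent.EtFound.PullStalk
import Mathlib.Algebra.Category.Grp.EpiMono
import Mathlib.Algebra.Homology.ShortComplex.Ab
import Mathlib.Algebra.Homology.ShortComplex.ExactFunctor

/-!
# First cohomology of skyscraper sheaves
-/

noncomputable section

universe u

open CategoryTheory CategoryTheory.Limits AlgebraicGeometry Opposite Abelian

set_option linter.style.haveILetI false
set_option backward.isDefEq.respectTransparency false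
set_option backward.isDefEq.respectTransparency.types false

namespace Groth.Agent.H9Transfer

theorem eq_zero_of_lift {A : Scheme.{u}} {S : ShortComplex (EtCoh.Ab A)} (hS : S.ShortExact)
    (b : Zs A ⟶ S.X₃) (t : Zs A ⟶ S.X₂) (ht : t ≫ S.g = b) :
    (Ext.mk₀ b).comp hS.extClass (zero_add 1) = 0 := by
  rw [← ht, ← Ext.mk₀_comp_mk₀, Ext.comp_assoc _ _ _ (add_zero 0) (zero_add 1) (by omega), hS.comp_extClass, Ext.comp_zero]

/-- `H¹` of a constant torsion-free sheaf on a field vanishes. -/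
theorem H1_const_eq_zero {K : Type u} [Field K] {M : Type} [AddCommGroup M] [IsAddTorsionFree M]
    (x : EtCoh.H (Spec (CommRingCat.of K)) (EtCoh.const (Spec (CommRingCat.of K)) M) 1) : x = 0 := by
  let X := Spec (CommRingCat.of K)
  let C := constantSheaf X.smallEtaleTopology AddCommGrpCat.{u + 1}
  haveI : PreservesFiniteLimits C := comp_preservesFiniteLimits _ _
  haveI : C.IsLeftAdjoint := (EtCore.constAdj X).isLeftAdjoint
  haveI : PreservesFiniteColimits C := inferInstance
  obtain ⟨n, hn, hnx⟩ := isOfFinAddOrder_iff_nsmul_eq_zero.1 (isOfFinAddOrder_H x)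
  let A := AddCommGrpCat.of (ULift.{u + 1} M)
  let f : A ⟶ A := n • 𝟙 A
  have hf : ∀ a : A, f a = n • a := fun a => by
    change (n • 𝟙 A : A ⟶ A).hom a = _
    simp
  haveI : Mono f := (AddCommGrpCat.mono_iff_injective _).2 fun a b h => by
    rw [hf, hf] at h
    exact ULift.ext _ _ ((nsmul_right_injective hn.ne') (congrArg ULift.down h))
  let S : ShortComplex AddCommGrpCat.{u + 1} := ShortComplex.mk f (cokernel.π f) (cokernel.condition f)
  have hS : S.ShortExact :=
    { exact := ShortComplex.exact_of_g_is_cokernel S (cokernelIsCokernel f)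
      mono_f := inferInstanceAs (Mono f)
      epi_g := inferInstanceAs (Epi (cokernel.π f)) }
  have hC : (S.map C).ShortExact := hS.map_of_exact C
  obtain ⟨β, hβ⟩ := Ext.covariant_sequence_exact₁ _ hC x (by
    show x.comp (Ext.mk₀ (C.map (n • 𝟙 A))) (add_zero 1) = 0
    rw [Functor.map_nsmul, CategoryTheory.Functor.map_id,
      show Ext.mk₀ (n • 𝟙 (C.obj A)) = n • Ext.mk₀ (𝟙 (C.obj A)) from
        map_nsmul (Ext.addEquiv₀.symm : (C.obj A ⟶ C.obj A) ≃+ _) n _,
      show x.comp (n • Ext.mk₀ (𝟙 (C.obj A))) (add_zero 1) = n • x.comp (Ext.mk₀ (𝟙 (C.obj A))) (add_zero 1) from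
        map_nsmul ((Ext.bilinearComp _ (C.obj A) (C.obj A) 1 0 1 (add_zero _)) x) n _, Ext.comp_mk₀_id, hnx]) rfl
  obtain ⟨b, rfl⟩ := (Ext.mk₀_bijective _ _).2 β
  obtain ⟨t, ht⟩ := ConstLift.exists_lift_hom_constantSheaf (S := X) (cokernel.π f)
    ((AddCommGrpCat.epi_iff_surjective _).1 inferInstance) b
  rw [← hβ]
  exact eq_zero_of_lift hC b t ht

/-- `H¹` of a direct image vanishes when `H¹` upstairs does. -/
theorem H1_push_eq_zero {Z X : Scheme.{u}} (f : Z ⟶ X) (F : EtCoh.Ab Z)
    (hF : ∀ y : EtCoh.H Z F 1, y = 0) (x : EtCoh.H X ((EtCoh.push f).obj F) 1) : x = 0 := by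
  let p := Classical.arbitrary (InjectivePresentation F)
  haveI := p.mono
  haveI := p.injective
  let T : ShortComplex (EtCoh.Ab Z) := ShortComplex.mk p.f (cokernel.π p.f) (cokernel.condition _)
  have hT : T.ShortExact :=
    { exact := ShortComplex.exact_of_g_is_cokernel T (cokernelIsCokernel p.f)
      mono_f := inferInstanceAs (Mono p.f)
      epi_g := inferInstanceAs (Epi (cokernel.π p.f)) }
  haveI := EtFound.pull_preservesFiniteLimits f
  haveI : (EtCoh.push f).IsRightAdjoint := (EtCoh.pullPushAdj f).isRightAdjoint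
  haveI : (EtCoh.pull f).PreservesMonomorphisms := inferInstance
  haveI : Injective ((EtCoh.push f).obj p.J) := Injective.injective_of_adjoint (EtCoh.pullPushAdj f) p.J
  let i := (EtCoh.push f).map p.f
  let S : ShortComplex (EtCoh.Ab X) := ShortComplex.mk i (cokernel.π i) (cokernel.condition i)
  have hS : S.ShortExact :=
    { exact := ShortComplex.exact_of_g_is_cokernel S (cokernelIsCokernel i)
      mono_f := inferInstanceAs (Mono i)
      epi_g := inferInstanceAs (Epi (cokernel.π i)) }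
  obtain ⟨β, hβ⟩ := Ext.covariant_sequence_exact₁ _ hS x (Ext.eq_zero_of_injective _) rfl
  obtain ⟨s, rfl⟩ := (Ext.mk₀_bijective _ _).2 β
  have hzero : i ≫ (EtCoh.push f).map T.g = 0 := by
    show (EtCoh.push f).map T.f ≫ _ = 0
    rw [← Functor.map_comp, T.zero, Functor.map_zero]
  let m : cokernel i ⟶ (EtCoh.push f).obj T.X₃ := cokernel.desc i ((EtCoh.push f).map T.g) hzero
  have hm : cokernel.π i ≫ m = (EtCoh.push f).map T.g := cokernel.π_desc _ _ _
  haveI : Mono m := by
    have hex : (T.map (EtCoh.push f)).Exact := by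
      have := (Functor.preservesFiniteLimits_tfae (EtCoh.push f)).out 3 0 rfl rfl
      exact ((this).1 inferInstance T hT).1
    haveI : Mono (T.map (EtCoh.push f)).f := inferInstanceAs (Mono ((EtCoh.push f).map T.f))
    exact ShortComplex.Exact.mono_cokernelDesc hex
  let φ : Zs Z ⟶ T.X₃ := (EtCore.pullConst f ℤ).inv ≫ ((EtCoh.pullPushAdj f).homEquiv _ _).symm (s ≫ m)
  have hφ : (Ext.mk₀ φ).comp hT.extClass (zero_add 1) = 0 := hF _
  obtain ⟨τ, hτ⟩ := Ext.covariant_sequence_exact₃ _ hT (Ext.mk₀ φ) (zero_add 1) hφ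
  obtain ⟨t₀, rfl⟩ := (Ext.mk₀_bijective _ _).2 τ
  rw [Ext.mk₀_comp_mk₀] at hτ
  have ht₀ : t₀ ≫ T.g = φ := (Ext.mk₀_bijective _ _).1 hτ
  rw [← hβ]
  refine eq_zero_of_lift hS s ((EtCoh.pullPushAdj f).homEquiv _ _ ((EtCore.pullConst f ℤ).hom ≫ t₀)) ?_
  rw [← cancel_mono m, Category.assoc]
  refine Eq.trans (congrArg (fun z => _ ≫ z) hm) ?_
  rw [← Adjunction.homEquiv_naturality_right, Category.assoc, ht₀, Iso.hom_inv_id_assoc, Equiv.apply_symm_apply]

end Groth.Agent.H9Transfer
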