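import Groth.Agent.H9Transfer.Field
import Mathlib.RingTheory.Unramified.Field
import Mathlib.RingTheory.Jacobson.Ring
import Mathlib.CategoryTheory.Sites.LocallySurjective

/-!
# Positive degree cohomology of a field is torsion
-/

noncomputable section

universe u

open CategoryTheory CategoryTheory.Limits AlgebraicGeometry Opposite Abelian

set_option linter.style.haveILetI false
set_option backward.isDefEq.respectTransparency false
set_option backward.isDefEq.respectTransparency.types false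

namespace Groth.Agent.H9Transfer

variable {K : Type u} [Field K]

/-- Any nonempty étale scheme over a field has a point in a finite separable extension. -/
theorem exists_field_point (V : (Spec (CommRingCat.of K)).Etale) (v : V.left) :
    ∃ (L : Type u) (_ : Field L) (_ : Algebra K L) (_ : FiniteDimensional K L) (_ : Algebra.IsSeparable K L)
      (p : Spec (CommRingCat.of L) ⟶ V.left), p ≫ V.hom = specMap K L := by
  obtain ⟨R, i, hi, hv, -⟩ := Scheme.exists_affine_mem_range_and_range_subset (x := v) (U := ⊤) trivial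
  let c : CommRingCat.of K ⟶ R := Spec.preimage (i ≫ V.hom)
  letI : Algebra K R := c.hom.toAlgebra
  have het : Etale (Spec.map c) := by
    rw [Spec.map_preimage]
    have : Etale V.hom := V.prop
    exact inferInstanceAs (Etale (i ≫ V.hom))
  rw [HasRingHomProperty.Spec_iff (P := @Etale)] at het
  haveI : Algebra.Etale K R := RingHom.etale_algebraMap.1 het
  obtain ⟨x, hx⟩ := hv
  haveI : Nontrivial R := by
    by_contra h
    rw [not_nontrivial_iff_subsingleton] at h
    exact (inferInstance : IsEmpty (PrimeSpectrum R)).false x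
  obtain ⟨m, hm⟩ := Ideal.exists_maximal R
  letI : Field (R ⧸ m) := Ideal.Quotient.field m
  haveI : Algebra.FiniteType K (R ⧸ m) := inferInstance
  haveI : FiniteDimensional K (R ⧸ m) := finite_of_finite_type_of_isJacobsonRing K (R ⧸ m)
  haveI : Algebra.FormallyUnramified R (R ⧸ m) :=
    Algebra.FormallyUnramified.of_surjective (Algebra.ofId R (R ⧸ m)) Ideal.Quotient.mk_surjective
  haveI : Algebra.FormallyUnramified K (R ⧸ m) := Algebra.FormallyUnramified.comp K R (R ⧸ m)
  refine ⟨R ⧸ m, inferInstance, inferInstance, inferInstance, Algebra.FormallyUnramified.isSeparable K _,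
    Spec.map (CommRingCat.ofHom (Ideal.Quotient.mk m)) ≫ i, ?_⟩
  rw [Category.assoc, ← Spec.map_preimage (i ≫ V.hom), ← Spec.map_comp]
  rfl

theorem exists_lift_nsmul {S : ShortComplex (EtCoh.Ab (Spec (CommRingCat.of K)))} [Epi S.g]
    (b : Zs (Spec (CommRingCat.of K)) ⟶ S.X₃) :
    ∃ (N : ℕ) (c : Zs (Spec (CommRingCat.of K)) ⟶ S.X₂), 0 < N ∧ c ≫ S.g = N • b := by
  let X := Spec (CommRingCat.of K)
  let b₁ := b.hom.app (op (EtCoh.top X)) (one X)
  have hloc : Presheaf.IsLocallySurjective X.smallEtaleTopology S.g.hom :=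
    (Sheaf.isLocallySurjective_iff_epi' AddCommGrpCat.{u + 1} S.g).2 inferInstance
  obtain ⟨V, g, v, hg, -⟩ := (EtFound.mem_topology_iff _).1 (hloc.imageSieve_mem b₁) (default : X)
  obtain ⟨y, hy⟩ := hg
  obtain ⟨L, _, _, _, _, p, hp⟩ := exists_field_point V v
  haveI := etale_specMap K L
  haveI := EtFound.jCont (specMap K L)
  let m : Lo (specMap K L) ⟶ V := MorphismProperty.Over.homMk p (by
    show p ≫ V.hom = 𝟙 _ ≫ specMap K L
    rw [hp, Category.id_comp])
  obtain ⟨ι, _, M, σ, hd, hM, hσ⟩ := exists_splitting (K := K) (L := L)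
  obtain ⟨c, hc⟩ := exists_trace (specMap K L) σ hσ hM S.X₂ (S.X₂.obj.map m.op y)
  have hc' := hc _ S.g b₁ (by
    rw [NatTrans.naturality_apply S.g.hom, hy, ← ConcreteCategory.comp_apply, ← Functor.map_comp, ← op_comp,
      (EtCore.topIsTerminal X).hom_ext (m ≫ g) ((EtCore.topIsTerminal X).from _)])
  let A := AddCommGrpCat.of (ULift.{u + 1} ℤ)
  let q : A ⟶ (EtCore.gsec X).obj S.X₂ := AddCommGrpCat.ofHom
    ((zmultiplesHom _ c).comp (AddEquiv.ulift : ULift.{u + 1} ℤ ≃+ ℤ).toAddMonoidHom)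
  refine ⟨Fintype.card ι, ((EtCore.constAdj X).homEquiv _ _).symm q, hd ▸ Module.finrank_pos, ?_⟩
  apply ((EtCore.constAdj X).homEquiv _ _).injective
  rw [Adjunction.homEquiv_naturality_right, Equiv.apply_symm_apply, Adjunction.homEquiv_unit]
  refine AddCommGrpCat.hom_ext (AddMonoidHom.ext fun ⟨z⟩ => ?_)
  have h1 : ((EtCore.constAdj X).unit.app A) ⟨z⟩ = z • one X := by
    rw [show (⟨z⟩ : ULift.{u + 1} ℤ) = z • (⟨1⟩ : ULift.{u + 1} ℤ) from ULift.ext _ _ (by simp)]
    exact map_zsmul ((EtCore.constAdj X).unit.app A).hom z _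
  show S.g.hom.app (op (EtCoh.top X)) (z • c) =
    (Fintype.card ι • b : Zs X ⟶ S.X₃).hom.app (op (EtCoh.top X)) (((EtCore.constAdj X).unit.app A) ⟨z⟩)
  have e : ∀ (a : ℕ) (s : (Zs X).obj.obj (op (EtCoh.top X))),
      (a • b : Zs X ⟶ S.X₃).hom.app (op (EtCoh.top X)) s = a • b.hom.app (op (EtCoh.top X)) s := fun a s => by
    induction a with
    | zero => simp
    | succ a ih => simp [add_nsmul, ← ih]
  rw [h1, e, map_zsmul, map_zsmul, hc', smul_comm]

theorem isOfFinAddOrder_H {F : EtCoh.Ab (Spec (CommRingCat.of K))} {i : ℕ}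
    (x : EtCoh.H (Spec (CommRingCat.of K)) F (i + 1)) : IsOfFinAddOrder x := by
  induction i generalizing F with
  | zero =>
    obtain ⟨S, hS, rfl, β, -, hβ⟩ := H9ExtNat.exists_eq_comp_extClass x
    obtain ⟨b, rfl⟩ := (Ext.mk₀_bijective _ _).2 β
    haveI := hS.epi_g
    obtain ⟨N, c, hN, hc⟩ := exists_lift_nsmul (S := S) b
    have hβ' : (Ext.mk₀ b).comp hS.extClass rfl = x := hβ
    refine isOfFinAddOrder_iff_nsmul_eq_zero.2 ⟨N, hN, ?_⟩
    have h : (Ext.mk₀ (N • b)).comp hS.extClass rfl = N • x := by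
      rw [show Ext.mk₀ (N • b) = N • Ext.mk₀ b from map_nsmul (Ext.addEquiv₀.symm : (_ ⟶ S.X₃) ≃+ _) _ _, ← hβ']
      exact map_nsmul (((Ext.bilinearComp _ S.X₃ S.X₁ 0 1 1 rfl)).flip hS.extClass) _ _
    rw [← h, ← hc, ← Ext.mk₀_comp_mk₀, Ext.comp_assoc _ _ _ (add_zero 0) (zero_add 1) (by omega),
      hS.comp_extClass, Ext.comp_zero]
  | succ i ih =>
    obtain ⟨S, hS, rfl, β, -, hβ⟩ := H9ExtNat.exists_eq_comp_extClass x
    have hβ' : β.comp hS.extClass rfl = x := hβ
    rw [← hβ']
    exact AddMonoidHom.isOfFinAddOrder (((Ext.bilinearComp _ S.X₃ S.X₁ (i + 1) 1 (i + 1 + 1) rfl)).flip hS.extClass) (ih β)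

end Groth.Agent.H9Transfer
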